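import Groth.Agent.MultExtSchLib.Core
import Groth.Agent.SplitHom.SameRank
import Groth.Agent.MaxTorus.LocSplitMax

/-!
The power maps of a torus over a field are faithfully flat.
-/

set_option autoImplicit false
set_option backward.isDefEq.respectTransparency false
set_option backward.isDefEq.respectTransparency.types false
set_option linter.unusedSectionVars false
set_option linter.style.haveILetI false
set_option maxHeartbeats 1000000

universe u

open CategoryTheory CategoryTheory.Limits MonoidalCategory CartesianMonoidalCategory MonObj AlgebraicGeometry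

noncomputable section

namespace Groth.Agent.TorusPow

open FixedSmooth HomTriv SplitHom

variable {S : Scheme.{u}} {K : Over S} [GrpObj K]

theorem univ_pow {B : CommRingCat.{u}} {t : Spec B ⟶ S} {M : Type} [AddCommGroup M] (σ : Split K t M) (n : ℕ) :
    (univ σ).left ≫ (𝟙 K ^ n : K ⟶ K).left =
      Spec.map (CommRingCat.ofHom (MonoidAlgebra.mapDomainRingHom B
        (powMonoidHom n : Multiplicative M →* Multiplicative M))) ≫ (univ σ).left := by
  have h1 : univ σ ≫ (𝟙 K ^ n) = σ.pt (GA B M) (Spec.map (gc B M)) ((MonoidAlgebra.of B (Multiplicative M)) ^ n) := by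
    rw [MonObj.comp_pow, Category.comp_id]
    exact (map_pow _ _ _).symm
  rw [← Over.comp_left, h1, pt_left]
  congr 2
  refine CommRingCat.hom_ext (MonoidAlgebra.ringHom_ext (fun b => ?_) fun x => ?_)
  · simp [FixedSmooth.L]
  · simp [FixedSmooth.L]

variable {k : Type u} [Field k] {T : Over (Spec (CommRingCat.of k))} [GrpObj T]

/-- The power maps of a torus over a field are faithfully flat. -/
theorem flat_surjective_pow (hT : Red.IsTorus T) (n : ℕ) (hn : 0 < n) :
    Flat (𝟙 T ^ n : T ⟶ T).left ∧ Surjective (𝟙 T ^ n : T ⟶ T).left := by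
  haveI : IsAffineHom T.hom := isAffineHom_of_isMultTypeLoc
    (WeilClosedLib.IsMultTypeLoc.of_isMultTypeFT (isMultTypeFT_of_isTorus hT))
  obtain ⟨S', f, hf, hsurj, -, hloc⟩ := hT
  obtain ⟨s', -⟩ := f.surjective (IsLocalRing.closedPoint k)
  obtain ⟨U, hs', r, hr⟩ := hloc s'
  let L := S'.residueField s'
  let c : Spec L ⟶ U.toScheme := IsOpenImmersion.lift U.ι (S'.fromSpecResidueField s') (by
    rintro _ ⟨x, rfl⟩
    exact ⟨⟨s', hs'⟩, (Scheme.fromSpecResidueField_apply s' x).symm⟩)
  let t : Spec L ⟶ Spec (CommRingCat.of k) := c ≫ U.ι ≫ f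
  obtain ⟨e⟩ := QuotTorus.isSplit_of_comp c (U.ι ≫ f) rfl hr
  obtain ⟨σ⟩ := exists_split t _ e
  let φ : Multiplicative (Fin r → ℤ) →* Multiplicative (Fin r → ℤ) := powMonoidHom n
  have hφ : Function.Injective φ := fun a b h => by
    have h' : n • Multiplicative.toAdd a = n • Multiplicative.toAdd b := congrArg Multiplicative.toAdd h
    exact funext fun i => by
      have := congrFun h' i
      simp only [Pi.smul_apply, nsmul_eq_mul] at this
      exact mul_left_cancel₀ (by exact_mod_cast hn.ne') this
  have h := (chart_iff (@Flat ⊓ @Surjective : MorphismProperty Scheme.{u}) _ charIff_flat_surjective σ σ (𝟙 T ^ n) φ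
    (𝟙 L) (univ_pow (res σ (𝟙 L)) n)).2 hφ
  rw [Spec.map_id, Category.id_comp] at h
  haveI : Flat t := by
    rw [← Spec.map_preimage t, HasRingHomProperty.Spec_iff (P := @Flat)]
    exact MonoFibre.flat_of_field _
  haveI : Surjective t := ⟨fun z => ⟨IsLocalRing.closedPoint L,
    @Subsingleton.elim _ (inferInstanceAs (Subsingleton (PrimeSpectrum k))) _ _⟩⟩
  haveI : QuasiCompact t := inferInstance
  haveI : (@Flat ⊓ @Surjective : MorphismProperty Scheme.{u}).DescendsAlong
      (@Surjective ⊓ @Flat ⊓ @QuasiCompact) := inferInstance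
  have h' := of_fpqc (P := (@Flat ⊓ @Surjective : MorphismProperty Scheme.{u})) (𝟙 T ^ n : T ⟶ T)
    (t := 𝟙 _) t (Category.comp_id t) h
  haveI := h'.1
  haveI := h'.2
  haveI : IsIso (pullback.fst T.hom (𝟙 (Spec (CommRingCat.of k)))) := inferInstance
  have hw := (isPullback_bc (𝟙 (Spec (CommRingCat.of k))) (𝟙 T ^ n : T ⟶ T)).w
  constructor
  · rw [← MorphismProperty.cancel_left_of_respectsIso @Flat (pullback.fst T.hom (𝟙 _)), hw]
    infer_instance
  · rw [← MorphismProperty.cancel_left_of_respectsIso @Surjective (pullback.fst T.hom (𝟙 _)), hw]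
    infer_instance

end Groth.Agent.TorusPow
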